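import Mathlib

/-! # Length modulo an element against lengths at the minimal primes -/

set_option autoImplicit false
universe u

open IsLocalRing

namespace TLenLib

variable {R : Type u} [CommRing R]

/-- The quotient `N / tN`. -/
abbrev Quot (t : R) (N : Type u) [AddCommGroup N] [Module R N] :=
  N ⧸ (Ideal.span {t} • (⊤ : Submodule R N))

/-- The `t`-torsion of `N`. -/
abbrev Tors (t : R) (N : Type u) [AddCommGroup N] [Module R N] := Submodule.torsionBy R N t

theorem mem_smul_top {t : R} {N : Type u} [AddCommGroup N] [Module R N] {x : N} :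
    x ∈ (Ideal.span {t} • (⊤ : Submodule R N)) ↔ ∃ y : N, t • y = x := by
  rw [Submodule.ideal_span_singleton_smul, Submodule.mem_smul_pointwise_iff_exists]
  simp

theorem six_term (t : R) {M₁ M₂ M₃ : Type u} [AddCommGroup M₁] [Module R M₁] [AddCommGroup M₂] [Module R M₂]
    [AddCommGroup M₃] [Module R M₃] (f : M₁ →ₗ[R] M₂) (g : M₂ →ₗ[R] M₃) (hf : Function.Injective f)
    (hg : Function.Surjective g) (h : Function.Exact f g) :
    Module.length R (Quot t M₂) + Module.length R (Tors t M₁) + Module.length R (Tors t M₃) =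
      Module.length R (Quot t M₁) + Module.length R (Quot t M₃) + Module.length R (Tors t M₂) := by
  have hgf : ∀ x, g (f x) = 0 := h.apply_apply_eq_zero
  -- torsion maps
  let fT : Tors t M₁ →ₗ[R] Tors t M₂ := f.restrict fun x hx => by
    rw [Submodule.mem_torsionBy_iff] at hx ⊢; rw [← map_smul, hx, map_zero]
  let gT : Tors t M₂ →ₗ[R] Tors t M₃ := g.restrict fun x hx => by
    rw [Submodule.mem_torsionBy_iff] at hx ⊢; rw [← map_smul, hx, map_zero]
  let fQ : Quot t M₁ →ₗ[R] Quot t M₂ := Submodule.mapQ _ _ f (Submodule.map_le_iff_le_comap.1 (by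
    rw [Submodule.map_smul'']; exact Submodule.smul_mono le_rfl le_top))
  let gQ : Quot t M₂ →ₗ[R] Quot t M₃ := Submodule.mapQ _ _ g (Submodule.map_le_iff_le_comap.1 (by
    rw [Submodule.map_smul'']; exact Submodule.smul_mono le_rfl le_top))
  have e1 : Module.length R (Tors t M₂) =
      Module.length R (Tors t M₁) + Module.length R (LinearMap.range gT) := by
    refine Module.length_eq_add_of_exact fT gT.rangeRestrict ?_ gT.surjective_rangeRestrict ?_
    · exact fun x y hxy => Subtype.ext (hf (congrArg Subtype.val hxy))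
    · intro x
      constructor
      · intro hx
        have hx' : g x.1 = 0 := congrArg (fun z => (z.1).1) hx
        obtain ⟨y, hy⟩ := (h x.1).1 hx'
        refine ⟨⟨y, ?_⟩, Subtype.ext hy⟩
        rw [Submodule.mem_torsionBy_iff]
        exact hf (by rw [map_smul, hy, map_zero]; exact x.2)
      · rintro ⟨y, rfl⟩
        exact Subtype.ext (Subtype.ext (hgf y.1))
  have e2 : Module.length R (Tors t M₃) = Module.length R (LinearMap.range gT) +
      Module.length R (Tors t M₃ ⧸ LinearMap.range gT) :=
    Module.length_eq_add_of_exact (LinearMap.range gT).subtype (LinearMap.range gT).mkQ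
      (Submodule.subtype_injective _) (Submodule.mkQ_surjective _) (LinearMap.exact_subtype_mkQ _)
  have e3 : Module.length R (Quot t M₁) =
      Module.length R (LinearMap.ker fQ) + Module.length R (LinearMap.range fQ) :=
    Module.length_eq_add_of_exact (LinearMap.ker fQ).subtype fQ.rangeRestrict
      (Submodule.subtype_injective _) fQ.surjective_rangeRestrict (fun z => by
        simp [LinearMap.rangeRestrict, LinearMap.codRestrict, Subtype.ext_iff])
  have e4 : Module.length R (Quot t M₂) =
      Module.length R (LinearMap.range fQ) + Module.length R (Quot t M₃) := by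
    refine Module.length_eq_add_of_exact (LinearMap.range fQ).subtype gQ (Submodule.subtype_injective _) ?_ ?_
    · intro z
      obtain ⟨y, rfl⟩ := Submodule.Quotient.mk_surjective _ z
      obtain ⟨x, rfl⟩ := hg y
      exact ⟨Submodule.Quotient.mk x, rfl⟩
    · intro z
      obtain ⟨x, rfl⟩ := Submodule.Quotient.mk_surjective _ z
      constructor
      · intro hx
        obtain ⟨y, hy⟩ := mem_smul_top.1 ((Submodule.Quotient.mk_eq_zero _).1 hx)
        obtain ⟨w, rfl⟩ := hg y
        obtain ⟨v, hv⟩ := (h (x - t • w)).1 (by rw [map_sub, map_smul, hy, sub_self])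
        refine ⟨⟨Submodule.Quotient.mk x, Submodule.Quotient.mk v, ?_⟩, rfl⟩
        show Submodule.Quotient.mk (f v) = _
        rw [hv, Submodule.Quotient.eq]
        exact mem_smul_top.2 ⟨-w, by rw [smul_neg]; abel⟩
      · rintro ⟨⟨w, v, hv⟩, hw⟩
        obtain ⟨v, rfl⟩ := Submodule.Quotient.mk_surjective _ v
        rw [← hw]
        show gQ w = 0
        rw [← hv]
        show Submodule.Quotient.mk (g (f v)) = 0
        rw [hgf]; rfl
  -- the connecting map
  let P : Submodule R M₂ := (Tors t M₃).comap g
  have hP : ∀ m : P, t • (m : M₂) ∈ LinearMap.range f := fun m => by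
    have hm : t • g m.1 = 0 := m.2
    exact (h _).1 (by rw [map_smul, hm])
  let δ : P →ₗ[R] Quot t M₁ :=
    (Submodule.mkQ _).comp ((LinearEquiv.ofInjective f hf).symm.toLinearMap.comp
      ((t • P.subtype).codRestrict (LinearMap.range f) hP))
  let π : P →ₗ[R] Tors t M₃ ⧸ LinearMap.range gT :=
    (LinearMap.range gT).mkQ.comp ((g.comp P.subtype).codRestrict (Tors t M₃) fun m => m.2)
  have hδ : ∀ (m : P) (v : M₁), f v = t • (m : M₂) → δ m = Submodule.Quotient.mk v := by
    intro m v hv
    show Submodule.Quotient.mk ((LinearEquiv.ofInjective f hf).symm ⟨t • (m : M₂), hP m⟩) = _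
    congr 1
    rw [LinearEquiv.symm_apply_eq]
    exact Subtype.ext hv.symm
  have hrange : LinearMap.range δ = LinearMap.ker fQ := by
    ext z
    obtain ⟨v, rfl⟩ := Submodule.Quotient.mk_surjective _ z
    constructor
    · rintro ⟨m, hm⟩
      obtain ⟨v', hv'⟩ := hP m
      rw [hδ m v' hv'] at hm
      rw [LinearMap.mem_ker, ← hm]
      show Submodule.Quotient.mk (f v') = 0
      rw [Submodule.Quotient.mk_eq_zero]
      exact mem_smul_top.2 ⟨m, hv'.symm⟩
    · intro hz
      obtain ⟨m, hm⟩ := mem_smul_top.1 ((Submodule.Quotient.mk_eq_zero _).1 (LinearMap.mem_ker.1 hz))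
      have hmP : m ∈ P := by
        show t • g m = 0
        rw [← map_smul, hm, hgf]
      exact ⟨⟨m, hmP⟩, hδ ⟨m, hmP⟩ v hm.symm⟩
  have hker : LinearMap.ker δ = LinearMap.ker π := by
    ext m
    obtain ⟨v, hv⟩ := hP m
    simp only [LinearMap.mem_ker]
    rw [hδ m v hv, Submodule.Quotient.mk_eq_zero]
    show _ ↔ Submodule.Quotient.mk _ = 0
    rw [Submodule.Quotient.mk_eq_zero]
    constructor
    · intro hv'
      obtain ⟨w, rfl⟩ := mem_smul_top.1 hv'
      refine ⟨⟨(m : M₂) - f w, ?_⟩, Subtype.ext ?_⟩
      · rw [Submodule.mem_torsionBy_iff, smul_sub, ← hv, map_smul, sub_self]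
      · show g ((m : M₂) - f w) = g m
        rw [map_sub, hgf, sub_zero]
    · rintro ⟨⟨x, hx⟩, hxm⟩
      have hxm' : g x = g (m : M₂) := congrArg Subtype.val hxm
      obtain ⟨w, hw⟩ := (h ((m : M₂) - x)).1 (by rw [map_sub, hxm', sub_self])
      refine mem_smul_top.2 ⟨w, hf ?_⟩
      rw [map_smul, hw, hv, smul_sub, (Submodule.mem_torsionBy_iff _ _).1 hx, sub_zero]
  have hπ : Function.Surjective π := by
    intro z
    obtain ⟨y, rfl⟩ := Submodule.Quotient.mk_surjective _ z
    obtain ⟨x, hx⟩ := hg y.1
    refine ⟨⟨x, ?_⟩, congrArg Submodule.Quotient.mk (Subtype.ext hx)⟩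
    show g x ∈ Tors t M₃
    rw [hx]; exact y.2
  have e5 : Module.length R (Tors t M₃ ⧸ LinearMap.range gT) = Module.length R (LinearMap.ker fQ) := by
    rw [← hrange, ← (LinearMap.quotKerEquivRange δ).length_eq, ← (π.quotKerEquivOfSurjective hπ).length_eq,
      (Submodule.quotEquivOfEq _ _ hker).length_eq]
  rw [e4, e3, e2, e1, e5]
  abel

section local_

variable [IsLocalRing R] [IsNoetherianRing R]

variable {I : Ideal R} {t : R}

/-- The only prime over `I` containing `t` is the maximal ideal. -/
def Only (I : Ideal R) (t : R) : Prop := ∀ P : Ideal R, P.IsPrime → I ≤ P → t ∈ P → P = maximalIdeal R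

theorem Only.mem_minimalPrimes (h : Only I t) (ht : t ∈ maximalIdeal R) {p : Ideal R} [p.IsPrime] (hp : I ≤ p)
    (htp : t ∉ p) : p ∈ I.minimalPrimes := by
  refine ⟨⟨inferInstance, hp⟩, fun q hq hqp => ?_⟩
  haveI := hq.1
  by_contra hne
  have hlt : q < p := lt_of_le_not_ge hqp hne
  have hpm : p < maximalIdeal R := lt_of_le_of_ne (le_maximalIdeal ‹p.IsPrime›.ne_top) fun e => htp (e ▸ ht)
  have hmin : maximalIdeal R ∈ (q ⊔ Ideal.span {t}).minimalPrimes := by
    refine ⟨⟨inferInstance, sup_le (hlt.le.trans hpm.le) ((Ideal.span_singleton_le_iff_mem _).2 ht)⟩, ?_⟩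
    rintro r ⟨hr, hqr⟩ -
    exact (h r hr (hq.2.trans (le_sup_left.trans hqr)) (hqr (Ideal.mem_sup_right (Ideal.subset_span rfl)))).ge
  have h1 := Ideal.map_height_le_one_of_mem_minimalPrimes hmin
  let f := Ideal.Quotient.mk q
  have hf : Function.Surjective f := Ideal.Quotient.mk_surjective
  have hmono : ∀ {a b : Ideal R}, q ≤ a → q ≤ b → a < b → a.map f < b.map f := fun {a b} ha hb hab =>
    (Ideal.map_mono hab.le).lt_of_not_ge fun e => hab.not_ge <| by
      simpa only [Ideal.comap_map_of_surjective f hf, ← RingHom.ker_eq_comap_bot, f, Ideal.mk_ker,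
        sup_eq_left.mpr ha, sup_eq_left.mpr hb] using Ideal.comap_mono (f := f) e
  haveI h0p : (q.map f).IsPrime := Ideal.map_isPrime_of_surjective hf (by simp [f, Ideal.mk_ker])
  haveI hpp : (p.map f).IsPrime := Ideal.map_isPrime_of_surjective hf (by simp [f, Ideal.mk_ker, hlt.le])
  haveI : ((maximalIdeal R).map f).IsPrime :=
    Ideal.map_isPrime_of_surjective hf (by simp [f, Ideal.mk_ker, (hlt.trans hpm).le])
  haveI : ((maximalIdeal R).map f).FiniteHeight := ⟨Or.inr (h1.trans_lt (WithTop.coe_lt_top 1)).ne⟩
  haveI : (p.map f).FiniteHeight :=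
    Ideal.finiteHeight_of_le (Ideal.map_mono hpm.le) Ideal.IsPrime.ne_top'
  have h2 := Ideal.height_strict_mono_of_isPrime_of_isPrime (hmono le_rfl hlt.le hlt)
  have h3 := Ideal.height_strict_mono_of_isPrime_of_isPrime (hmono hlt.le (hlt.trans hpm).le hpm)
  have h4 := h3.trans_le h1
  rw [Order.lt_one_iff] at h4
  rw [h4] at h2
  exact not_lt_bot h2

theorem Only.length_ne_top (h : Only I t) (N : Type u) [AddCommGroup N] [Module R N] [Module.Finite R N]
    (hN : I ⊔ Ideal.span {t} ≤ Module.annihilator R N) : Module.length R N ≠ ⊤ := by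
  let J := I ⊔ Ideal.span {t}
  letI : Module (R ⧸ J) N := Module.IsTorsionBySet.module (R := R) (M := N) (I := J)
    (fun x a => Module.mem_annihilator.1 (hN a.2) x)
  haveI : IsScalarTower R (R ⧸ J) N := Module.IsTorsionBySet.isScalarTower _
  haveI : IsArtinianRing (R ⧸ J) := by
    rw [isArtinianRing_iff_krullDimLE_zero]
    refine Ring.KrullDimLE.mk₀ fun P hP => ?_
    have hJP : J ≤ P.comap (Ideal.Quotient.mk J) := by
      intro a ha
      rw [Ideal.mem_comap, Ideal.Quotient.eq_zero_iff_mem.2 ha]; exact zero_mem P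
    have hm := h _ (hP.comap _) (le_sup_left.trans hJP) (hJP (Ideal.mem_sup_right (Ideal.subset_span rfl)))
    rw [← Ideal.map_comap_of_surjective _ Ideal.Quotient.mk_surjective P, hm]
    refine (Ideal.map_eq_top_or_isMaximal_of_surjective _ Ideal.Quotient.mk_surjective
      (maximalIdeal.isMaximal R)).resolve_left fun htop => hP.ne_top ?_
    rw [← Ideal.map_comap_of_surjective _ Ideal.Quotient.mk_surjective P, hm, htop]
  haveI : Module.Finite (R ⧸ J) N := Module.Finite.of_restrictScalars_finite R _ _
  rw [Module.length_eq_of_surjective (R := R ⧸ J) (S := R) Ideal.Quotient.mk_surjective]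
  exact Module.length_ne_top_iff.2 ((isFiniteLength_iff_isNoetherian_isArtinian).2 ⟨inferInstance, inferInstance⟩)

variable (I) in
/-- The sum over the minimal primes of `I` of the local lengths, weighted by the lengths modulo `t`. -/
noncomputable def wsum [Fintype I.minimalPrimes] (t : R) (N : Type u) [AddCommGroup N] [Module R N] : ℕ∞ :=
  ∑ p : I.minimalPrimes,
    (haveI : p.1.IsPrime := p.2.1.1;
      Module.length (Localization.AtPrime p.1) (LocalizedModule p.1.primeCompl N)) *
      Module.length R (R ⧸ (p.1 ⊔ Ideal.span {t}))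

theorem length_localized_add (p : Ideal R) [p.IsPrime] {M₁ M₂ M₃ : Type u} [AddCommGroup M₁] [Module R M₁]
    [AddCommGroup M₂] [Module R M₂] [AddCommGroup M₃] [Module R M₃] (f : M₁ →ₗ[R] M₂) (g : M₂ →ₗ[R] M₃)
    (hf : Function.Injective f) (hg : Function.Surjective g) (h : Function.Exact f g) :
    Module.length (Localization.AtPrime p) (LocalizedModule p.primeCompl M₂) =
      Module.length (Localization.AtPrime p) (LocalizedModule p.primeCompl M₁) +
        Module.length (Localization.AtPrime p) (LocalizedModule p.primeCompl M₃) :=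
  Module.length_eq_add_of_exact (LocalizedModule.map p.primeCompl f) (LocalizedModule.map p.primeCompl g)
    (LocalizedModule.map_injective _ _ hf) (LocalizedModule.map_surjective _ _ hg)
    (LocalizedModule.map_exact _ _ _ h)

omit [IsLocalRing R] [IsNoetherianRing R] in
theorem length_localized_eq_zero (p : Ideal R) [p.IsPrime] {N : Type u} [AddCommGroup N] [Module R N]
    {c : R} (hcp : c ∉ p) (hc : ∀ x : N, c • x = 0) :
    Module.length (Localization.AtPrime p) (LocalizedModule p.primeCompl N) = 0 := by
  rw [Module.length_eq_zero_iff]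
  refine ⟨fun a b => ?_⟩
  have : ∀ z : LocalizedModule p.primeCompl N, z = 0 := fun z => by
    induction z using LocalizedModule.induction_on with
    | h m s =>
      rw [← LocalizedModule.mk_cancel_common_left ⟨c, hcp⟩ s m]
      show LocalizedModule.mk (c • m) _ = 0
      rw [hc, LocalizedModule.zero_mk]
  rw [this a, this b]

omit [IsLocalRing R] [IsNoetherianRing R] in
theorem length_localized_self (q : Ideal R) [q.IsPrime] {N : Type u} [AddCommGroup N] [Module R N]
    (e : N ≃ₗ[R] R ⧸ q) :
    Module.length (Localization.AtPrime q) (LocalizedModule q.primeCompl N) = 1 := by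
  let L := Localization.AtPrime q
  let x : N := e.symm 1
  let ψ : L →ₗ[L] LocalizedModule q.primeCompl N :=
    LinearMap.toSpanSingleton L _ (LocalizedModule.mk x 1)
  have hx : ∀ m : N, ∃ a : R, a • x = m := fun m => by
    obtain ⟨a, ha⟩ := Ideal.Quotient.mk_surjective (e m)
    refine ⟨a, e.injective ?_⟩
    rw [map_smul, LinearEquiv.apply_symm_apply, ← ha, Algebra.smul_def, mul_one]; rfl
  have hψ : ∀ (a : R) (s : q.primeCompl), ψ (Localization.mk a s) = LocalizedModule.mk (a • x) s := fun a s => by
    show Localization.mk a s • LocalizedModule.mk x (1 : q.primeCompl) = _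
    rw [LocalizedModule.mk_smul_mk, mul_one]
  have hsurj : Function.Surjective ψ := fun z => by
    induction z using LocalizedModule.induction_on with
    | h m s =>
      obtain ⟨a, rfl⟩ := hx m
      exact ⟨_, hψ a s⟩
  have hker : LinearMap.ker ψ = maximalIdeal L := by
    ext z
    induction z using Localization.induction_on with
    | H y =>
      obtain ⟨a, s⟩ := y
      have hz : LocalizedModule.mk (a • x) s = 0 ↔ ∃ c : q.primeCompl, c • (a • x) = 0 := by
        rw [← LocalizedModule.zero_mk (1 : q.primeCompl), LocalizedModule.mk_eq]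
        simp
      rw [LinearMap.mem_ker, hψ, hz, ← Localization.AtPrime.map_eq_maximalIdeal,
        Localization.mk_eq_mk', IsLocalization.mk'_mem_map_algebraMap_iff q.primeCompl]
      constructor
      · rintro ⟨c, hc⟩
        refine ⟨c, c.2, ?_⟩
        have h' := congrArg e hc
        simp only [Submonoid.smul_def, map_smul, LinearEquiv.apply_symm_apply, x, map_zero, Algebra.smul_def,
          mul_one, ← map_mul] at h'
        exact Ideal.Quotient.eq_zero_iff_mem.1 h'
      · rintro ⟨c, hc, hca⟩
        refine ⟨⟨c, hc⟩, e.injective ?_⟩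
        simp only [Submonoid.smul_def, map_smul, LinearEquiv.apply_symm_apply, x, map_zero, Algebra.smul_def,
          mul_one, ← map_mul]
        exact Ideal.Quotient.eq_zero_iff_mem.2 hca
  rw [← (ψ.quotKerEquivOfSurjective hsurj).length_eq, (Submodule.quotEquivOfEq _ _ hker).length_eq]
  letI : Field (L ⧸ maximalIdeal L) := Ideal.Quotient.field _
  rw [Module.length_eq_of_surjective (R := L ⧸ maximalIdeal L) (S := L) Ideal.Quotient.mk_surjective]
  exact Module.length_eq_one _ _

/-- The key identity. -/
theorem length_quot_eq (h : Only I t) (ht : t ∈ maximalIdeal R) (hm : maximalIdeal R ∉ I.minimalPrimes)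
    [Fintype I.minimalPrimes] (M : Type u) [AddCommGroup M] [Module R M] [hMf : Module.Finite R M]
    (hM : I ≤ Module.annihilator R M) :
    Module.length R (Quot t M) = Module.length R (Tors t M) + wsum I t M := by
  classical
  have htp : ∀ p : I.minimalPrimes, t ∉ p.1 := fun p hp => hm (h p.1 p.2.1.1 p.2.1.2 hp ▸ p.2)
  revert hM
  induction hMf using IsNoetherianRing.induction_on_isQuotientEquivQuotientPrime R with
  | subsingleton N =>
    intro _
    rw [Module.length_eq_zero (M := Quot t N), Module.length_eq_zero (M := Tors t N), zero_add, wsum]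
    refine (Finset.sum_eq_zero fun p _ => ?_).symm
    haveI : p.1.IsPrime := p.2.1.1
    rw [length_localized_eq_zero p.1 (c := 1) (fun h1 => p.2.1.1.ne_top ((Ideal.eq_top_iff_one _).2 h1))
      fun x => Subsingleton.elim _ _, zero_mul]
  | quotient N q e =>
    intro hN
    have hIq : I ≤ q.1 := fun a ha => by
      rw [← Ideal.Quotient.eq_zero_iff_mem]
      have h1 := congrArg e (Module.mem_annihilator.1 (hN ha) (e.symm 1))
      rw [map_smul, LinearEquiv.apply_symm_apply, map_zero, Algebra.smul_def, mul_one] at h1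
      exact h1
    have hq : ∀ (a : R), a ∈ q.1 → ∀ x : N, a • x = 0 := fun a ha x => e.injective (by
      rw [map_smul, map_zero, Algebra.smul_def]
      show Ideal.Quotient.mk q.1 a * e x = 0
      rw [Ideal.Quotient.eq_zero_iff_mem.2 ha, zero_mul])
    by_cases htq : t ∈ q.1
    · have hT : Tors t N = ⊤ := eq_top_iff.2 fun x _ => by
        rw [Submodule.mem_torsionBy_iff]; exact hq t htq x
      have hQ : (Ideal.span {t} • (⊤ : Submodule R N)) = ⊥ := eq_bot_iff.2 fun x hx => by
        obtain ⟨y, rfl⟩ := mem_smul_top.1 hx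
        exact hq t htq y
      have hw : wsum I t N = 0 := Finset.sum_eq_zero fun p _ => by
        haveI : p.1.IsPrime := p.2.1.1
        rw [length_localized_eq_zero p.1 (htp p) (hq t htq), zero_mul]
      rw [hw, add_zero, (LinearEquiv.ofTop _ hT).length_eq, (Submodule.quotEquivOfEqBot _ hQ).length_eq]
    · haveI := q.2
      have hqmin := h.mem_minimalPrimes ht hIq htq
      have hT : Tors t N = ⊥ := eq_bot_iff.2 fun x hx => by
        obtain ⟨a, ha⟩ := Ideal.Quotient.mk_surjective (e x)
        have h1 : t * a ∈ q.1 := by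
          rw [← Ideal.Quotient.eq_zero_iff_mem, map_mul, ha]
          have := congrArg e ((Submodule.mem_torsionBy_iff _ _).1 hx)
          rwa [map_smul, map_zero, Algebra.smul_def] at this
        rw [Submodule.mem_bot]
        refine e.injective ?_
        rw [← ha, map_zero, Ideal.Quotient.eq_zero_iff_mem]
        exact (q.2.mem_or_mem h1).resolve_left htq
      haveI : Subsingleton (Tors t N) := Submodule.subsingleton_iff_eq_bot.2 hT
      rw [Module.length_eq_zero (M := Tors t N), zero_add, wsum, Finset.sum_eq_single ⟨q.1, hqmin⟩]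
      · rw [length_localized_self q.1 e, one_mul]
        let φ : R →ₗ[R] Quot t N := (Submodule.mkQ _).comp (e.symm.toLinearMap.comp (Submodule.mkQ q.1))
        have hφ : Function.Surjective φ :=
          (Submodule.mkQ_surjective _).comp (e.symm.surjective.comp (Submodule.mkQ_surjective _))
        have hker : LinearMap.ker φ = q.1 ⊔ Ideal.span {t} := by
          ext a
          show Submodule.Quotient.mk (e.symm (Ideal.Quotient.mk q.1 a)) = 0 ↔ _
          rw [Submodule.Quotient.mk_eq_zero, mem_smul_top]
          constructor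
          · rintro ⟨y, hy⟩
            obtain ⟨b, hb⟩ := Ideal.Quotient.mk_surjective (e y)
            have h1 : Ideal.Quotient.mk q.1 (t * b - a) = 0 := by
              have := congrArg e hy
              rw [map_smul, LinearEquiv.apply_symm_apply, Algebra.smul_def] at this
              rw [map_sub, map_mul, hb, sub_eq_zero]
              exact this
            have : a = t * b - (t * b - a) := by ring
            rw [this]
            exact sub_mem (Ideal.mem_sup_right (Ideal.mem_span_singleton'.2 ⟨b, mul_comm b t⟩))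
              (Ideal.mem_sup_left (Ideal.Quotient.eq_zero_iff_mem.1 h1))
          · intro ha
            obtain ⟨z, hz, w, hw, rfl⟩ := Submodule.mem_sup.1 ha
            obtain ⟨b, rfl⟩ := Ideal.mem_span_singleton'.1 hw
            refine ⟨e.symm (Ideal.Quotient.mk q.1 b), ?_⟩
            rw [← map_smul, map_add, Ideal.Quotient.eq_zero_iff_mem.2 hz, zero_add, map_mul, mul_comm,
              Algebra.smul_def]
            rfl
        rw [← (φ.quotKerEquivOfSurjective hφ).length_eq, (Submodule.quotEquivOfEq _ _ hker).length_eq]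
      · intro p _ hpq
        haveI : p.1.IsPrime := p.2.1.1
        obtain ⟨c, hcq, hcp⟩ := Set.not_subset.1 fun hle : (q.1 : Set R) ⊆ p.1 =>
          hpq (Subtype.ext (le_antisymm (p.2.2 ⟨q.2, hIq⟩ hle) hle))
        rw [length_localized_eq_zero p.1 hcp (hq c hcq), zero_mul]
      · simp
  | exact N₁ N₂ N₃ f g hf hg hfg ih₁ ih₃ =>
    intro hN
    have h1 : I ≤ Module.annihilator R N₁ := hN.trans (f.annihilator_le_of_injective hf)
    have h3 : I ≤ Module.annihilator R N₃ := hN.trans (g.annihilator_le_of_surjective hg)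
    have hw : wsum I t N₂ = wsum I t N₁ + wsum I t N₃ := by
      simp only [wsum, ← Finset.sum_add_distrib]
      refine Finset.sum_congr rfl fun p _ => ?_
      haveI : p.1.IsPrime := p.2.1.1
      rw [length_localized_add p.1 f g hf hg hfg, add_mul]
    have hfin : ∀ (N : Type u) [AddCommGroup N] [Module R N] [Module.Finite R N],
        I ≤ Module.annihilator R N → Module.length R (Tors t N) ≠ ⊤ := fun N _ _ _ hN => by
      refine h.length_ne_top _ (sup_le (hN.trans ((Tors t N).subtype.annihilator_le_of_injective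
        (Submodule.subtype_injective _))) ((Ideal.span_singleton_le_iff_mem _).2 ?_))
      exact Module.mem_annihilator.2 fun x => Subtype.ext x.2
    have h6 := six_term t f g hf hg hfg
    rw [ih₁ h1, ih₃ h3] at h6
    rw [hw]
    have hne : Module.length R (Tors t N₁) + Module.length R (Tors t N₃) ≠ (⊤ : ℕ∞) :=
      WithTop.add_ne_top.2 ⟨hfin N₁ h1, hfin N₃ h3⟩
    refine ENat.add_left_injective_of_ne_top hne ?_
    show Module.length R (Quot t N₂) + (_ + _) = _ + (_ + _)
    rw [← add_assoc (Module.length R (Quot t N₂)), h6]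
    abel

theorem Only.le_and_iff (h : Only I t) (ht : t ∈ maximalIdeal R) (hm : maximalIdeal R ∉ I.minimalPrimes)
    (M : Type u) [AddCommGroup M] [Module R M] [Module.Finite R M] (hM : I ≤ Module.annihilator R M) :
    (∑ᶠ p : I.minimalPrimes, haveI : p.1.IsPrime := p.2.1.1
        Module.length (Localization.AtPrime p.1) (LocalizedModule p.1.primeCompl M)) ≤
      Module.length R (Quot t M) ∧
    ((∑ᶠ p : I.minimalPrimes, haveI : p.1.IsPrime := p.2.1.1
        Module.length (Localization.AtPrime p.1) (LocalizedModule p.1.primeCompl M)) =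
      Module.length R (Quot t M) ↔
      IsSMulRegular M t ∧ ∀ p : I.minimalPrimes,
        (haveI : p.1.IsPrime := p.2.1.1; Nontrivial (LocalizedModule p.1.primeCompl M)) →
        Ideal.map (Ideal.Quotient.mk p.1) (maximalIdeal R) = Ideal.span {Ideal.Quotient.mk p.1 t}) := by
  classical
  haveI : Fintype I.minimalPrimes := (Ideal.finite_minimalPrimes_of_isNoetherianRing R I).fintype
  rw [finsum_eq_sum_of_fintype]
  let L : I.minimalPrimes → ℕ∞ := fun p =>
    haveI : p.1.IsPrime := p.2.1.1
    Module.length (Localization.AtPrime p.1) (LocalizedModule p.1.primeCompl M)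
  let c : I.minimalPrimes → ℕ∞ := fun p => Module.length R (R ⧸ (p.1 ⊔ Ideal.span {t}))
  have hle : ∀ p : I.minimalPrimes, p.1 ⊔ Ideal.span {t} ≤ maximalIdeal R := fun p =>
    sup_le (le_maximalIdeal p.2.1.1.ne_top) ((Ideal.span_singleton_le_iff_mem _).2 ht)
  have hc : ∀ p, 1 ≤ c p := fun p => by
    haveI : Nontrivial (R ⧸ (p.1 ⊔ Ideal.span {t})) :=
      Ideal.Quotient.nontrivial_iff.2 fun e => (maximalIdeal.isMaximal R).ne_top (top_le_iff.1 (e ▸ hle p))
    exact Order.one_le_iff_pos.2 Module.length_pos
  have key := length_quot_eq h ht hm M hM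
  have hsplit : wsum I t M = ∑ p, L p + ∑ p, L p * (c p - 1) := by
    rw [← Finset.sum_add_distrib]
    refine Finset.sum_congr rfl fun p _ => ?_
    show L p * c p = _
    conv_lhs => rw [← add_tsub_cancel_of_le (hc p)]
    rw [mul_add, mul_one]
  have hQ : Module.length R (Quot t M) = ∑ p, L p + (Module.length R (Tors t M) + ∑ p, L p * (c p - 1)) := by
    rw [key, hsplit, add_left_comm]
  have hQfin : Module.length R (Quot t M) ≠ ⊤ := by
    refine h.length_ne_top _ (sup_le (hM.trans ((Submodule.mkQ _).annihilator_le_of_surjective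
      (Submodule.mkQ_surjective _))) ((Ideal.span_singleton_le_iff_mem _).2 ?_))
    refine Module.mem_annihilator.2 fun z => ?_
    obtain ⟨x, rfl⟩ := Submodule.Quotient.mk_surjective _ z
    rw [← Submodule.Quotient.mk_smul, Submodule.Quotient.mk_eq_zero]
    exact mem_smul_top.2 ⟨x, rfl⟩
  refine ⟨hQ ▸ le_self_add, ?_⟩
  show (∑ p, L p) = _ ↔ _
  have hne : ∑ p, L p ≠ ⊤ := (WithTop.add_ne_top.1 (hQ ▸ hQfin)).1
  rw [hQ]
  have heq : (∑ p, L p = ∑ p, L p + (Module.length R (Tors t M) + ∑ p, L p * (c p - 1))) ↔
      Module.length R (Tors t M) + ∑ p, L p * (c p - 1) = 0 := by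
    refine ⟨fun h' => ?_, fun h' => by rw [h', add_zero]⟩
    exact (WithTop.add_left_cancel hne ((add_zero _).trans h')).symm
  rw [heq, add_eq_zero]
  refine and_congr ?_ ?_
  · rw [Module.length_eq_zero_iff, Submodule.subsingleton_iff_eq_bot]
    constructor
    · intro hT x y hxy
      have h1 : x - y ∈ Tors t M := by
        rw [Submodule.mem_torsionBy_iff, smul_sub]; exact sub_eq_zero.2 hxy
      rw [hT, Submodule.mem_bot, sub_eq_zero] at h1
      exact h1
    · intro hr
      exact eq_bot_iff.2 fun x hx => hr (((Submodule.mem_torsionBy_iff _ _).1 hx).trans (smul_zero t).symm)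
  · rw [Finset.sum_eq_zero_iff]
    simp only [Finset.mem_univ, true_implies, mul_eq_zero, tsub_eq_zero_iff_le]
    refine forall_congr' fun p => ?_
    haveI : p.1.IsPrime := p.2.1.1
    have hone : c p ≤ 1 ↔ p.1 ⊔ Ideal.span {t} = maximalIdeal R := by
      constructor
      · intro h1
        have h2 : IsSimpleModule R (R ⧸ (p.1 ⊔ Ideal.span {t})) :=
          Module.length_eq_one_iff.1 (le_antisymm h1 (hc p))
        exact IsLocalRing.eq_maximalIdeal ((Ideal.isMaximal_def).2 (isSimpleModule_iff_isCoatom.1 h2))
      · intro e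
        show Module.length R (R ⧸ (p.1 ⊔ Ideal.span {t})) ≤ 1
        rw [e]
        haveI : IsSimpleModule R (R ⧸ maximalIdeal R) :=
          isSimpleModule_iff_isCoatom.2 (Ideal.isMaximal_def.1 (maximalIdeal.isMaximal R))
        exact (Module.length_eq_one R (R ⧸ maximalIdeal R)).le
    have hmap : p.1 ⊔ Ideal.span {t} = maximalIdeal R ↔
        Ideal.map (Ideal.Quotient.mk p.1) (maximalIdeal R) = Ideal.span {Ideal.Quotient.mk p.1 t} := by
      rw [← Set.image_singleton, ← Ideal.map_span]
      constructor
      · intro e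
        rw [← e, Ideal.map_sup, Ideal.map_quotient_self, bot_sup_eq]
      · intro e
        have h1 := congrArg (Ideal.comap (Ideal.Quotient.mk p.1)) e
        rw [Ideal.comap_map_of_surjective _ Ideal.Quotient.mk_surjective,
          Ideal.comap_map_of_surjective _ Ideal.Quotient.mk_surjective, ← RingHom.ker_eq_comap_bot,
          Ideal.mk_ker, sup_eq_left.2 (le_maximalIdeal p.2.1.1.ne_top)] at h1
        rw [sup_comm]; exact h1.symm
    rw [hone, hmap, or_iff_not_imp_left]
    refine imp_congr_left ?_
    show ¬ Module.length (Localization.AtPrime p.1) (LocalizedModule p.1.primeCompl M) = 0 ↔ _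
    rw [Module.length_eq_zero_iff, not_subsingleton_iff_nontrivial]

end local_

end TLenLib
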